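import Mathlib
import Cfsg.Agent.RankTwoClose.BN

/-!
# Tree lemma, I: the apartment

`F : Frame G` (see `RankTwoClose/BN`), `U ≤ B` with `B = U H₁`.  The chambers `c_k` (`k : ℤ`) of the
apartment fixed by the torus: `c_k = alt true k B`, `c_{-k} = alt false k B` (`k ≥ 0`).
`W k` is the conjugate of `U` belonging to `c_k`; the vertex `j` lies between `c_{j-1}` and `c_j`;
`S i j = ⨅ (i ≤ k < j), W k` is the group belonging to the path from the vertex `i` to the vertex `j`.
-/

set_option autoImplicit false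

namespace Cfsg.Agent.Omega.Tree

open Cfsg.Agent.RankTwoClose

/-- Conjugate subgroup `g U g⁻¹`. -/
def cj {G : Type*} [Group G] (g : G) (U : Subgroup G) : Subgroup G :=
  U.map (MulAut.conj g).toMonoidHom

section cj

variable {G : Type*} [Group G]

theorem mem_cj {g x : G} {U : Subgroup G} : x ∈ cj g U ↔ g⁻¹ * x * g ∈ U := by
  constructor
  · rintro ⟨u, hu, rfl⟩
    have : g⁻¹ * ((MulAut.conj g).toMonoidHom u) * g = u := by
      simp [MulAut.conj_apply, mul_assoc]
    rw [this]; exact hu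
  · intro h
    exact ⟨_, h, by simp [MulAut.conj_apply, mul_assoc]⟩

theorem conj_mem_cj {g x : G} {U : Subgroup G} (h : x ∈ U) : g * x * g⁻¹ ∈ cj g U := by
  rw [mem_cj]
  have : g⁻¹ * (g * x * g⁻¹) * g = x := by group
  rwa [this]

theorem cj_cj (g h : G) (U : Subgroup G) : cj g (cj h U) = cj (g * h) U := by
  ext x
  simp only [mem_cj]
  have : h⁻¹ * (g⁻¹ * x * g) * h = (g * h)⁻¹ * x * (g * h) := by group
  rw [this]

theorem cj_one (U : Subgroup G) : cj 1 U = U := by
  ext x; simp [mem_cj]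

theorem cj_mono {g : G} {U V : Subgroup G} (h : U ≤ V) : cj g U ≤ cj g V :=
  Subgroup.map_mono h

theorem cj_le_cj {g : G} {U V : Subgroup G} : cj g U ≤ cj g V ↔ U ≤ V := by
  refine ⟨fun h x hx => ?_, cj_mono⟩
  have := h (conj_mem_cj (g := g) hx)
  rw [mem_cj] at this
  have e : g⁻¹ * (g * x * g⁻¹) * g = x := by group
  rwa [e] at this

theorem cj_eq_of_norm {g : G} {U : Subgroup G} (h : ∀ x, x ∈ U ↔ g * x * g⁻¹ ∈ U) : cj g U = U := by
  ext x
  rw [mem_cj, h]
  have e : g * (g⁻¹ * x * g) * g⁻¹ = x := by group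
  rw [e]

theorem card_cj (g : G) (U : Subgroup G) : Nat.card (cj g U) = Nat.card U :=
  Nat.card_congr (Subgroup.equivMapOfInjective U _ (MulAut.conj g).injective).symm.toEquiv

end cj

/-- The data of the tree lemma: `U ≤ B` with `B = U H₁`, trivial or transitive action of the
torus-invariant subgroups of `U`. -/
structure Data {G : Type*} [Group G] (F : Frame G) (U : Subgroup G) : Prop where
  le : U ≤ F.B
  norm : ∀ b ∈ F.B, ∀ u ∈ U, b * u * b⁻¹ ∈ U
  cover : ∀ b ∈ F.B, ∃ u ∈ U, u⁻¹ * b ∈ F.H₁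
  /-- trivial or transitive -/
  irr : ∀ i, ∀ X : Subgroup G, X ≤ U → (∀ h ∈ F.H, ∀ x ∈ X, h * x * h⁻¹ ∈ X) →
    X ≤ cj (F.n i) U ∨ ∀ u ∈ U, ∃ x ∈ X, x⁻¹ * u ∈ cj (F.n i) U
  /-- the kernel of `U` on the panel -/
  ker : ∀ i, ∀ u ∈ U, ∀ x ∈ U, x ∈ cj (F.n i) U → u * x * u⁻¹ ∈ cj (F.n i) U
  thick : ∀ i, ¬ U ≤ cj (F.n i) U

/-- The word leading to the chamber `c_k`. -/
def word {G : Type*} [Group G] (F : Frame G) : ℤ → G
  | Int.ofNat k => alt F.n true k
  | Int.negSucc k => alt F.n false (k + 1)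

section word

variable {G : Type*} [Group G] (F : Frame G)

theorem word_nat (k : ℕ) : word F (k : ℤ) = alt F.n true k := rfl

theorem word_zero : word F 0 = 1 := rfl

theorem word_neg (k : ℕ) : word F (-(k : ℤ)) = alt F.n false k := by
  cases k with
  | zero => rfl
  | succ k =>
    have : (-((k + 1 : ℕ) : ℤ)) = Int.negSucc k := by omega
    rw [this]; rfl

theorem word_mem_normH (k : ℤ) : word F k ∈ Subgroup.normalizer (F.H : Set G) := by
  obtain ⟨n, rfl | rfl⟩ := k.eq_nat_or_neg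
  · rw [word_nat]; exact F.alt_mem_norm' _ _
  · rw [word_neg]; exact F.alt_mem_norm' _ _

theorem word_mem_norm (k : ℤ) : word F k ∈ Subgroup.normalizer (F.H₁ : Set G) := by
  obtain ⟨n, rfl | rfl⟩ := k.eq_nat_or_neg
  · rw [word_nat]; exact F.alt_mem_norm _ _
  · rw [word_neg]; exact F.alt_mem_norm _ _

/-- The reflection at the vertex `1`. -/
theorem true_mul_word (k : ℤ) : ∃ h ∈ F.H₁, F.n true * word F k = word F (1 - k) * h := by
  rcases le_or_gt k 0 with hk | hk
  · obtain ⟨n, rfl⟩ : ∃ n : ℕ, k = -(n : ℤ) := ⟨k.natAbs, by omega⟩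
    refine ⟨1, one_mem _, ?_⟩
    have e : (1 - -(n : ℤ)) = ((n + 1 : ℕ) : ℤ) := by push_cast; ring
    rw [e, word_neg, word_nat, alt_succ, mul_one]; rfl
  · obtain ⟨n, rfl⟩ : ∃ n : ℕ, k = ((n + 1 : ℕ) : ℤ) := ⟨(k - 1).toNat, by omega⟩
    have e : (1 - ((n + 1 : ℕ) : ℤ)) = -(n : ℤ) := by push_cast; ring
    rw [e, word_neg, word_nat, alt_succ]
    have h1 := F.alt_mem_norm false n
    rw [Subgroup.mem_normalizer_iff''] at h1
    refine ⟨_, (h1 _).1 (F.sq_mem true), ?_⟩
    show F.n true * (F.n true * alt F.n false n) = _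
    group

/-- The reflection at the vertex `0`. -/
theorem false_mul_word (k : ℤ) : ∃ h ∈ F.H₁, F.n false * word F k = word F (-1 - k) * h := by
  rcases le_or_gt 0 k with hk | hk
  · obtain ⟨n, rfl⟩ : ∃ n : ℕ, k = (n : ℤ) := ⟨k.toNat, by omega⟩
    refine ⟨1, one_mem _, ?_⟩
    have e : (-1 - (n : ℤ)) = -((n + 1 : ℕ) : ℤ) := by push_cast; ring
    rw [e, word_neg, word_nat, alt_succ, mul_one]; rfl
  · obtain ⟨n, rfl⟩ : ∃ n : ℕ, k = -((n + 1 : ℕ) : ℤ) := ⟨(-k - 1).toNat, by omega⟩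
    have e : (-1 - -((n + 1 : ℕ) : ℤ)) = (n : ℤ) := by push_cast; ring
    rw [e, word_neg, word_nat, alt_succ]
    have h1 := F.alt_mem_norm true n
    rw [Subgroup.mem_normalizer_iff''] at h1
    refine ⟨_, (h1 _).1 (F.sq_mem false), ?_⟩
    show F.n false * (F.n false * alt F.n true n) = _
    group

end word

section

variable {G : Type*} [Group G] {F : Frame G} {U : Subgroup G}

/-- The conjugate of `U` belonging to the chamber `c_k`. -/
def W (F : Frame G) (U : Subgroup G) (k : ℤ) : Subgroup G := cj (word F k) U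

theorem W_zero : W F U 0 = U := by rw [W, word_zero, cj_one]

variable (D : Data F U)

namespace Data

include D

theorem cj_H₁ {h : G} (hh : h ∈ F.H₁) : cj h U = U := by
  refine cj_eq_of_norm fun x => ⟨D.norm h (F.H₁_le hh) x, fun hx => ?_⟩
  have := D.norm h⁻¹ (inv_mem (F.H₁_le hh)) _ hx
  have e : h⁻¹ * (h * x * h⁻¹) * h⁻¹⁻¹ = x := by group
  rwa [e] at this

theorem cj_true (k : ℤ) : cj (F.n true) (W F U k) = W F U (1 - k) := by
  obtain ⟨h, hh, e⟩ := true_mul_word F k
  rw [W, cj_cj, e, ← cj_cj, D.cj_H₁ hh]; rfl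

theorem cj_false (k : ℤ) : cj (F.n false) (W F U k) = W F U (-1 - k) := by
  obtain ⟨h, hh, e⟩ := false_mul_word F k
  rw [W, cj_cj, e, ← cj_cj, D.cj_H₁ hh]; rfl

/-- The action of the words on the apartment. -/
theorem cj_word (n : ℕ) :
    (∀ l : ℤ, cj (word F n) (W F U l) = if Even n then W F U (l + n) else W F U (n - l)) ∧
    (∀ l : ℤ, cj (word F (-n)) (W F U l) = if Even n then W F U (l - n) else W F U (-n - l)) := by
  induction n with
  | zero =>
    constructor <;> intro l <;> simp [word_zero, cj_one]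
  | succ n ih =>
    obtain ⟨ih1, ih2⟩ := ih
    constructor
    · intro l
      have e : word F ((n + 1 : ℕ) : ℤ) = F.n true * word F (-n) := by
        rw [word_nat, word_neg, alt_succ]; rfl
      rw [e, ← cj_cj, ih2]
      by_cases hn : Even n
      · rw [if_pos hn, if_neg (by simpa using fun h => (Nat.even_add_one.1 h) hn), D.cj_true]
        congr 1; push_cast; ring
      · rw [if_neg hn, if_pos (Nat.even_add_one.2 hn), D.cj_true]
        congr 1; push_cast; ring
    · intro l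
      have e : word F (-((n + 1 : ℕ) : ℤ)) = F.n false * word F n := by
        rw [word_nat, word_neg, alt_succ]; rfl
      rw [e, ← cj_cj, ih1]
      by_cases hn : Even n
      · rw [if_pos hn, if_neg (by simpa using fun h => (Nat.even_add_one.1 h) hn), D.cj_false]
        congr 1; push_cast; ring
      · rw [if_neg hn, if_pos (Nat.even_add_one.2 hn), D.cj_false]
        congr 1; push_cast; ring

/-- Translation by the even number `k`. -/
theorem cj_word_even {k : ℤ} (hk : Even k) (l : ℤ) :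
    cj (word F k) (W F U l) = W F U (l + k) := by
  obtain ⟨n, rfl | rfl⟩ := k.eq_nat_or_neg
  · rw [(D.cj_word n).1, if_pos (by exact_mod_cast hk)]
  · rw [(D.cj_word n).2, if_pos (by rw [even_neg] at hk; exact_mod_cast hk)]
    rfl

/-- Reflection exchanging the chambers `c_0` and `c_k`, `k` odd. -/
theorem cj_word_odd {k : ℤ} (hk : ¬ Even k) (l : ℤ) :
    cj (word F k) (W F U l) = W F U (k - l) := by
  obtain ⟨n, rfl | rfl⟩ := k.eq_nat_or_neg
  · rw [(D.cj_word n).1, if_neg (by exact_mod_cast hk)]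
  · rw [(D.cj_word n).2, if_neg (by rw [even_neg] at hk; exact_mod_cast hk)]

end Data

/-- `X` is normalised by the torus. -/
def Inv (F : Frame G) (X : Subgroup G) : Prop := ∀ h ∈ F.H, ∀ x ∈ X, h * x * h⁻¹ ∈ X

/-- The element `g` normalises the torus and moves torus-invariant groups to torus-invariant
groups. -/
theorem Inv.cj {X : Subgroup G} (hX : Inv F X) {g : G}
    (hg : g ∈ Subgroup.normalizer (F.H : Set G)) : Inv F (cj g X) := by
  intro h hh x hx
  rw [mem_cj] at hx ⊢
  have h1 : g⁻¹ * h * g ∈ F.H := by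
    rw [Subgroup.mem_normalizer_iff''] at hg
    exact (hg h).1 hh
  have h2 := hX _ h1 _ hx
  have e : g⁻¹ * h * g * (g⁻¹ * x * g) * (g⁻¹ * h * g)⁻¹ = g⁻¹ * (h * x * h⁻¹) * g := by group
  rwa [e] at h2

/-- Trivial or transitive, for the chambers `c_k`, `c_l` of one panel. -/
def TT (F : Frame G) (U : Subgroup G) (k l : ℤ) : Prop :=
  ∀ X : Subgroup G, X ≤ W F U k → Inv F X → X ≤ W F U l ∨ ∀ u ∈ W F U k, ∃ x ∈ X, x⁻¹ * u ∈ W F U l

/-- The kernel is normal. -/
def KK (F : Frame G) (U : Subgroup G) (k l : ℤ) : Prop :=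
  ∀ u ∈ W F U k, ∀ x ∈ W F U k, x ∈ W F U l → u * x * u⁻¹ ∈ W F U l

theorem TT.map {k l k' l' : ℤ} (h : TT F U k l) {g : G}
    (hg : g ∈ Subgroup.normalizer (F.H : Set G)) (hk : cj g (W F U k) = W F U k')
    (hl : cj g (W F U l) = W F U l') : TT F U k' l' := by
  intro X hX hinv
  have h1 : cj g⁻¹ X ≤ W F U k := by
    rw [← cj_le_cj (g := g), cj_cj, mul_inv_cancel, cj_one, hk]; exact hX
  rcases h _ h1 (hinv.cj (inv_mem hg)) with h2 | h2
  · left
    rw [← cj_le_cj (g := g), cj_cj, mul_inv_cancel, cj_one, hl] at h2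
    exact h2
  · right
    intro u hu
    rw [← hk, mem_cj] at hu
    obtain ⟨x, hx, hxu⟩ := h2 _ hu
    rw [mem_cj, inv_inv] at hx
    refine ⟨_, hx, ?_⟩
    rw [← hl, mem_cj]
    have e : g⁻¹ * ((g * x * g⁻¹)⁻¹ * u) * g = x⁻¹ * (g⁻¹ * u * g) := by group
    rwa [e]

theorem KK.map {k l k' l' : ℤ} (h : KK F U k l) {g : G} (hk : cj g (W F U k) = W F U k')
    (hl : cj g (W F U l) = W F U l') : KK F U k' l' := by
  intro u hu x hx hx'
  rw [← hk, mem_cj] at hu hx
  rw [← hl, mem_cj] at hx' ⊢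
  have := h _ hu _ hx hx'
  have e : g⁻¹ * u * g * (g⁻¹ * x * g) * (g⁻¹ * u * g)⁻¹ = g⁻¹ * (u * x * u⁻¹) * g := by group
  rwa [e] at this

namespace Data

include D

theorem W_one : W F U 1 = cj (F.n true) U := by
  have := D.cj_true 0
  rw [W_zero] at this
  rw [this]; congr 1

theorem W_neg_one : W F U (-1) = cj (F.n false) U := by
  have := D.cj_false 0
  rw [W_zero] at this
  rw [this]; congr 1

theorem tt_zero_one : TT F U 0 1 := by
  intro X hX hinv
  rw [W_zero] at hX
  rw [W_zero, D.W_one]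
  exact D.irr true X hX hinv

theorem tt_zero_neg : TT F U 0 (-1) := by
  intro X hX hinv
  rw [W_zero] at hX
  rw [W_zero, D.W_neg_one]
  exact D.irr false X hX hinv

theorem kk_zero_one : KK F U 0 1 := by
  intro u hu x hx
  rw [W_zero] at hu hx
  rw [D.W_one]
  exact D.ker true u hu x hx

theorem kk_zero_neg : KK F U 0 (-1) := by
  intro u hu x hx
  rw [W_zero] at hu hx
  rw [D.W_neg_one]
  exact D.ker false u hu x hx

theorem tt_succ (k : ℤ) : TT F U k (k + 1) := by
  by_cases hk : Even k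
  · refine D.tt_zero_one.map (word_mem_normH F k) ?_ ?_
    · rw [D.cj_word_even hk]; congr 1; ring
    · rw [D.cj_word_even hk]; congr 1; ring
  · refine D.tt_zero_neg.map (word_mem_normH F k) ?_ ?_
    · rw [D.cj_word_odd hk]; congr 1; ring
    · rw [D.cj_word_odd hk, sub_neg_eq_add]

theorem tt_pred (k : ℤ) : TT F U k (k - 1) := by
  by_cases hk : Even k
  · refine D.tt_zero_neg.map (word_mem_normH F k) ?_ ?_
    · rw [D.cj_word_even hk]; congr 1; ring
    · rw [D.cj_word_even hk]; congr 1; ring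
  · refine D.tt_zero_one.map (word_mem_normH F k) ?_ ?_
    · rw [D.cj_word_odd hk]; congr 1; ring
    · rw [D.cj_word_odd hk]

theorem kk_succ (k : ℤ) : KK F U k (k + 1) := by
  by_cases hk : Even k
  · refine D.kk_zero_one.map (g := word F k) ?_ ?_
    · rw [D.cj_word_even hk]; congr 1; ring
    · rw [D.cj_word_even hk]; congr 1; ring
  · refine D.kk_zero_neg.map (g := word F k) ?_ ?_
    · rw [D.cj_word_odd hk]; congr 1; ring
    · rw [D.cj_word_odd hk, sub_neg_eq_add]

theorem kk_pred (k : ℤ) : KK F U k (k - 1) := by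
  by_cases hk : Even k
  · refine D.kk_zero_neg.map (g := word F k) ?_ ?_
    · rw [D.cj_word_even hk]; congr 1; ring
    · rw [D.cj_word_even hk]; congr 1; ring
  · refine D.kk_zero_one.map (g := word F k) ?_ ?_
    · rw [D.cj_word_odd hk]; congr 1; ring
    · rw [D.cj_word_odd hk]

theorem inv_U : Inv F U := fun h hh x hx => D.norm h (F.H_le hh) x hx

theorem inv_W (k : ℤ) : Inv F (W F U k) := D.inv_U.cj (word_mem_normH F k)

theorem thick_succ (k : ℤ) : ¬ W F U k ≤ W F U (k + 1) := by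
  intro h
  by_cases hk : Even k
  · apply D.thick true
    rw [← D.W_one, ← cj_le_cj (g := word F k), D.cj_word_even hk]
    rw [add_comm 1 k]; exact h
  · apply D.thick false
    rw [← D.W_neg_one, ← cj_le_cj (g := word F k), D.cj_word_odd hk, sub_neg_eq_add]
    exact h

end Data

/-- The group belonging to the path from the vertex `i` to the vertex `j`. -/
def S (F : Frame G) (U : Subgroup G) (i j : ℤ) : Subgroup G where
  carrier := {x | ∀ k, i ≤ k → k < j → x ∈ W F U k}
  mul_mem' := fun ha hb k h1 h2 => mul_mem (ha k h1 h2) (hb k h1 h2)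
  one_mem' := fun _ _ _ => one_mem _
  inv_mem' := fun ha k h1 h2 => inv_mem (ha k h1 h2)

theorem mem_S {i j : ℤ} {x : G} : x ∈ S F U i j ↔ ∀ k, i ≤ k → k < j → x ∈ W F U k := Iff.rfl

theorem S_le {i j k : ℤ} (h1 : i ≤ k) (h2 : k < j) : S F U i j ≤ W F U k := fun _ hx => hx k h1 h2

theorem S_anti {i j i' j' : ℤ} (h1 : i' ≤ i) (h2 : j ≤ j') : S F U i' j' ≤ S F U i j :=
  fun _ hx k hk1 hk2 => hx k (h1.trans hk1) (lt_of_lt_of_le hk2 h2)

theorem mem_S_succ {i j : ℤ} (hij : i ≤ j) {x : G} :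
    x ∈ S F U i (j + 1) ↔ x ∈ S F U i j ∧ x ∈ W F U j := by
  constructor
  · intro h
    exact ⟨S_anti le_rfl (by omega) h, h j hij (by omega)⟩
  · rintro ⟨h1, h2⟩ k hk1 hk2
    rcases eq_or_ne k j with rfl | hne
    · exact h2
    · exact h1 k hk1 (by omega)

theorem mem_S_pred {i j : ℤ} (hij : i ≤ j) {x : G} :
    x ∈ S F U (i - 1) j ↔ x ∈ S F U i j ∧ x ∈ W F U (i - 1) := by
  constructor
  · intro h
    exact ⟨S_anti (by omega) le_rfl h, h (i - 1) le_rfl (by omega)⟩
  · rintro ⟨h1, h2⟩ k hk1 hk2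
    rcases eq_or_ne k (i - 1) with rfl | hne
    · exact h2
    · exact h1 k (by omega) hk2

theorem S_single (k : ℤ) : S F U k (k + 1) = W F U k := by
  refine le_antisymm (S_le le_rfl (by omega)) fun x hx l h1 h2 => ?_
  have : l = k := by omega
  rwa [this]

/-- An element moving the chambers by an affine map `k ↦ c + ε k` moves the path groups. -/
theorem cj_S_tr {g : G} {c : ℤ} (hg : ∀ l, cj g (W F U l) = W F U (l + c)) (i j : ℤ) :
    cj g (S F U i j) = S F U (i + c) (j + c) := by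
  ext x
  rw [mem_cj, mem_S, mem_S]
  constructor
  · intro h k hk1 hk2
    have := h (k - c) (by omega) (by omega)
    rw [← mem_cj, hg] at this
    rwa [sub_add_cancel] at this
  · intro h k hk1 hk2
    rw [← mem_cj, hg]
    exact h _ (by omega) (by omega)

theorem cj_S_rf {g : G} {c : ℤ} (hg : ∀ l, cj g (W F U l) = W F U (c - l)) (i j : ℤ) :
    cj g (S F U i j) = S F U (c + 1 - j) (c + 1 - i) := by
  ext x
  rw [mem_cj, mem_S, mem_S]
  constructor
  · intro h k hk1 hk2
    have := h (c - k) (by omega) (by omega)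
    rw [← mem_cj, hg] at this
    rwa [sub_sub_cancel] at this
  · intro h k hk1 hk2
    rw [← mem_cj, hg]
    exact h _ (by omega) (by omega)

namespace Data

include D

theorem inv_S (i j : ℤ) : Inv F (S F U i j) :=
  fun h hh x hx k hk1 hk2 => D.inv_W k h hh x (hx k hk1 hk2)

/-- Forward: transitive if not trivial. -/
theorem trans_fwd {i j : ℤ} (hij : i < j) (h : ¬ S F U i j ≤ W F U j) {u : G}
    (hu : u ∈ W F U (j - 1)) : ∃ x ∈ S F U i j, x⁻¹ * u ∈ W F U j := by
  have h1 := D.tt_succ (j - 1) (S F U i j) (S_le (by omega) (by omega)) (D.inv_S i j)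
  rw [sub_add_cancel] at h1
  rcases h1 with h1 | h1
  · exact absurd h1 h
  · exact h1 u hu

/-- Backward: transitive if not trivial. -/
theorem trans_bwd {i j : ℤ} (hij : i < j) (h : ¬ S F U i j ≤ W F U (i - 1)) {u : G}
    (hu : u ∈ W F U i) : ∃ x ∈ S F U i j, x⁻¹ * u ∈ W F U (i - 1) := by
  rcases D.tt_pred i (S F U i j) (S_le (by omega) (by omega)) (D.inv_S i j) with h1 | h1
  · exact absurd h1 h
  · exact h1 u hu

/-- Exchange. -/
theorem exch {i j : ℤ} (hij : i < j) (h : ¬ S F U i j ≤ W F U j)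
    (h' : S F U (i - 1) j ≤ W F U j) :
    ¬ S F U i j ≤ W F U (i - 1) ∧ S F U i (j + 1) ≤ W F U (i - 1) := by
  constructor
  · intro hle
    exact h fun x hx => h' ((mem_S_pred hij.le).2 ⟨hx, hle hx⟩)
  · by_contra hne
    apply h
    intro x hx
    obtain ⟨y, hy, hyx⟩ := D.trans_bwd (by omega) hne (S_le le_rfl hij hx)
    have hy' := (mem_S_succ hij.le).1 hy
    have h1 : y⁻¹ * x ∈ W F U j :=
      h' ((mem_S_pred hij.le).2 ⟨mul_mem (inv_mem hy'.1) hx, hyx⟩)
    have h2 := mul_mem hy'.2 h1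
    rwa [mul_inv_cancel_left] at h2

/-- Exchange, the mirror image. -/
theorem exch' {i j : ℤ} (hij : i < j) (h : ¬ S F U i j ≤ W F U (i - 1))
    (h' : S F U i (j + 1) ≤ W F U (i - 1)) :
    ¬ S F U i j ≤ W F U j ∧ S F U (i - 1) j ≤ W F U j := by
  constructor
  · intro hle
    exact h fun x hx => h' ((mem_S_succ hij.le).2 ⟨hx, hle hx⟩)
  · by_contra hne
    apply h
    intro x hx
    obtain ⟨y, hy, hyx⟩ := D.trans_fwd (by omega) hne (S_le (by omega) (by omega) hx)
    have hy' := (mem_S_pred hij.le).1 hy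
    have h1 : y⁻¹ * x ∈ W F U (i - 1) :=
      h' ((mem_S_succ hij.le).2 ⟨mul_mem (inv_mem hy'.1) hx, hyx⟩)
    have h2 := mul_mem hy'.2 h1
    rwa [mul_inv_cancel_left] at h2

/-- Commutators of path groups. -/
theorem comm {i j k l : ℤ} (h1 : i < k) (h2 : k < j) (h3 : j < l) {x y : G}
    (hx : x ∈ S F U i j) (hy : y ∈ S F U k l) :
    y * x * y⁻¹ * x⁻¹ ∈ S F U (k - 1) (j + 1) := by
  intro r hr1 hr2
  rcases eq_or_ne r (k - 1) with rfl | hr
  · -- at the vertex `k`
    have a1 : x ∈ W F U k := hx k (by omega) (by omega)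
    have a2 : x ∈ W F U (k - 1) := hx (k - 1) (by omega) (by omega)
    exact mul_mem (D.kk_pred k y (hy k le_rfl (by omega)) x a1 a2) (inv_mem a2)
  · rcases eq_or_ne r j with rfl | hr'
    · have b1 : y ∈ W F U r := hy r (by omega) (by omega)
      have b2 : y ∈ W F U (r - 1) := hy (r - 1) (by omega) (by omega)
      have a1 : x ∈ W F U (r - 1) := hx (r - 1) (by omega) (by omega)
      have h4 := D.kk_succ (r - 1) x a1 y⁻¹ (inv_mem b2)
      rw [sub_add_cancel] at h4
      have h5 := mul_mem b1 (h4 (inv_mem b1))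
      have e : y * (x * y⁻¹ * x⁻¹) = y * x * y⁻¹ * x⁻¹ := by group
      rwa [e] at h5
    · have a1 : x ∈ W F U r := hx r (by omega) (by omega)
      have b1 : y ∈ W F U r := hy r (by omega) (by omega)
      exact mul_mem (mul_mem (mul_mem b1 a1) (inv_mem b1)) (inv_mem a1)

end Data

end

end Cfsg.Agent.Omega.Tree
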