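import Cfsg.Agent.Omega.Tree.Symm
import Cfsg.Agent.RankTwoClose.Final

/-!
# Tree lemma, IV: closing in the symmetric case

`D : Data F U`, `M : Sym F U m`, the kernel of the apartment is trivial.  Let `E` be the root group
of the panel of type `true` (ends `1 - m` and `1`), `A = C_H(E)`.  If the `n i` normalise the
centralizers in `H` of the root groups of their panels, and `(A, E)` satisfies the two control
statements `Ctl` (from the `2`-local subgroups), then the braid relation of length `m` holds and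
`⟨P₀, P₁⟩` has a split BN-pair of rank two.
-/

set_option autoImplicit false
set_option linter.unusedSectionVars false

universe u

namespace Cfsg.Agent.Omega.Tree

open Cfsg.Agent.RankTwoClose Cfsg.Agent.Omega.RootLemma

/-- Control: `E` is a Sylow `2`-subgroup of `C_G(A)`, with commuting involutions, and
`C_G(u) ∩ C_G(A) ≤ N_G(E)` for the involutions `u` of `E`. -/
structure Ctl {G : Type*} [Group G] (A E : Subgroup G) : Prop where
  syl : ∀ P : Subgroup G, IsPGroup 2 P → (∀ x ∈ P, ∀ a ∈ A, x * a = a * x) → E ≤ P → P ≤ E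
  pair : ∃ a ∈ E, ∃ b ∈ E, a * a = 1 ∧ b * b = 1 ∧ a ≠ 1 ∧ b ≠ 1 ∧ a ≠ b
  cent : ∀ u ∈ E, u * u = 1 → ∀ v ∈ E, u * v = v * u
  norm : ∀ u ∈ E, u * u = 1 → u ≠ 1 → ∀ c, c * u = u * c → (∀ a ∈ A, c * a = a * c) →
    ∀ v ∈ E, c * v * c⁻¹ ∈ E

section Map

variable {G : Type*} [Group G]

theorem forall_mem_cj {g : G} {V : Subgroup G} {p : G → Prop} :
    (∀ x ∈ cj g V, p x) ↔ ∀ x ∈ V, p (g * x * g⁻¹) := by
  constructor
  · intro h x hx
    exact h _ (conj_mem_cj hx)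
  · intro h x hx
    have := h _ (mem_cj.1 hx)
    have e : g * (g⁻¹ * x * g) * g⁻¹ = x := by group
    rwa [e] at this

theorem isPGroup_cj {p : ℕ} {V : Subgroup G} (h : IsPGroup p V) (g : G) : IsPGroup p (cj g V) :=
  h.map _

theorem Ctl.cj {A E : Subgroup G} (h : Ctl A E) (g : G) : Ctl (cj g A) (cj g E) where
  syl P hP hc hle := by
    have h1 : ∀ x ∈ Tree.cj g⁻¹ P, ∀ a ∈ A, x * a = a * x := by
      rw [forall_mem_cj]
      intro x hx a ha
      have := hc x hx _ (conj_mem_cj (g := g) ha)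
      calc g⁻¹ * x * g⁻¹⁻¹ * a = g⁻¹ * (x * (g * a * g⁻¹)) * g := by group
        _ = g⁻¹ * ((g * a * g⁻¹) * x) * g := by rw [this]
        _ = a * (g⁻¹ * x * g⁻¹⁻¹) := by group
    have h2 : E ≤ Tree.cj g⁻¹ P := by
      have := cj_mono (g := g⁻¹) hle
      rwa [cj_cj, inv_mul_cancel, cj_one] at this
    have h3 := cj_mono (g := g) (h.syl _ (isPGroup_cj hP g⁻¹) h1 h2)
    rwa [cj_cj, mul_inv_cancel, cj_one] at h3
  pair := by
    obtain ⟨a, ha, b, hb, h1, h2, h3, h4, h5⟩ := h.pair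
    refine ⟨_, conj_mem_cj (g := g) ha, _, conj_mem_cj (g := g) hb, ?_, ?_, ?_, ?_, ?_⟩
    · have e : g * a * g⁻¹ * (g * a * g⁻¹) = g * (a * a) * g⁻¹ := by group
      rw [e, h1]; group
    · have e : g * b * g⁻¹ * (g * b * g⁻¹) = g * (b * b) * g⁻¹ := by group
      rw [e, h2]; group
    · intro e
      exact h3 (conj_eq_one_iff.1 e)
    · intro e
      exact h4 (conj_eq_one_iff.1 e)
    · intro e
      exact h5 (mul_left_cancel (mul_right_cancel e))
  cent := by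
    rw [forall_mem_cj]
    intro u hu huu
    rw [forall_mem_cj]
    intro v hv
    have h1 : u * u = 1 := by
      have e : g * u * g⁻¹ * (g * u * g⁻¹) = g * (u * u) * g⁻¹ := by group
      rw [e] at huu
      exact conj_eq_one_iff.1 huu
    calc g * u * g⁻¹ * (g * v * g⁻¹) = g * (u * v) * g⁻¹ := by group
      _ = g * (v * u) * g⁻¹ := by rw [h.cent u hu h1 v hv]
      _ = g * v * g⁻¹ * (g * u * g⁻¹) := by group
  norm := by
    rw [forall_mem_cj]
    intro u hu huu hu1 c hcu hca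
    rw [forall_mem_cj]
    intro v hv
    have h1 : u * u = 1 := by
      have e : g * u * g⁻¹ * (g * u * g⁻¹) = g * (u * u) * g⁻¹ := by group
      rw [e] at huu
      exact conj_eq_one_iff.1 huu
    have h2 : u ≠ 1 := by
      rintro rfl
      exact hu1 (by group)
    have h3 : (g⁻¹ * c * g) * u = u * (g⁻¹ * c * g) := by
      calc (g⁻¹ * c * g) * u = g⁻¹ * (c * (g * u * g⁻¹)) * g := by group
        _ = g⁻¹ * ((g * u * g⁻¹) * c) * g := by rw [hcu]
        _ = u * (g⁻¹ * c * g) := by group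
    have h4 : ∀ a ∈ A, (g⁻¹ * c * g) * a = a * (g⁻¹ * c * g) := by
      intro a ha
      have := hca _ (conj_mem_cj (g := g) ha)
      calc (g⁻¹ * c * g) * a = g⁻¹ * (c * (g * a * g⁻¹)) * g := by group
        _ = g⁻¹ * ((g * a * g⁻¹) * c) * g := by rw [this]
        _ = a * (g⁻¹ * c * g) := by group
    have h5 := conj_mem_cj (g := g) (h.norm u hu h1 h2 _ h3 h4 v hv)
    have e : g * (g⁻¹ * c * g * v * (g⁻¹ * c * g)⁻¹) * g⁻¹ = c * (g * v * g⁻¹) * c⁻¹ := by group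
    rwa [e] at h5

end Map

section Panel

variable {G : Type u} [Group G] {F : Frame G} {U : Subgroup G}

/-- `C_H(E)`. -/
def CH (F : Frame G) (E : Subgroup G) : Subgroup G := F.H ⊓ Subgroup.centralizer (E : Set G)

theorem mem_CH {E : Subgroup G} {a : G} : a ∈ CH F E ↔ a ∈ F.H ∧ ∀ e ∈ E, e * a = a * e := by
  rw [CH, Subgroup.mem_inf, Subgroup.mem_centralizer_iff]
  rfl

theorem CH_cj {E : Subgroup G} {g : G} (hg : g ∈ Subgroup.normalizer (F.H : Set G)) :
    CH F (cj g E) = cj g (CH F E) := by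
  ext a
  rw [mem_cj, mem_CH, mem_CH, forall_mem_cj]
  rw [Subgroup.mem_normalizer_iff''] at hg
  rw [← hg a]
  constructor
  · rintro ⟨h1, h2⟩
    refine ⟨h1, fun e he => ?_⟩
    have := h2 e he
    calc e * (g⁻¹ * a * g) = g⁻¹ * ((g * e * g⁻¹) * a) * g := by group
      _ = g⁻¹ * (a * (g * e * g⁻¹)) * g := by rw [this]
      _ = g⁻¹ * a * g * e := by group
  · rintro ⟨h1, h2⟩
    refine ⟨h1, fun e he => ?_⟩
    have := h2 e he
    calc g * e * g⁻¹ * a = g * (e * (g⁻¹ * a * g)) * g⁻¹ := by group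
      _ = g * (g⁻¹ * a * g * e) * g⁻¹ := by rw [this]
      _ = a * (g * e * g⁻¹) := by group

/-- A root group of the panel of type `i`. -/
structure PRoot (F : Frame G) (U : Subgroup G) (i : Bool) (E : Subgroup G) : Prop where
  le : E ≤ U
  norm : ∀ h ∈ F.H₁, ∀ e ∈ E, h * e * h⁻¹ ∈ E
  trans : ∀ u ∈ U, ∃ e ∈ E, e⁻¹ * u ∈ cj (F.n i) U
  reg : ∀ e ∈ E, e ∈ cj (F.n i) U → e = 1
  /-- the reflection normalises `C_H(E)` -/
  refl : ∀ a ∈ CH F E, (F.n i)⁻¹ * a * F.n i ∈ CH F E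

variable (D : Data F U) (hU : IsPGroup 2 U) (hUH : U ⊓ F.H = ⊥)
  (hst : ∀ i, ∀ u ∈ U, (F.n i)⁻¹ * u * F.n i ∈ F.B → u ∈ cj (F.n i) U)

include D in
theorem cj_inv_n (i : Bool) : cj (F.n i)⁻¹ U = cj (F.n i) U := by
  have h1 : (F.n i)⁻¹ = F.n i * (F.n i * F.n i)⁻¹ := by group
  rw [h1, ← cj_cj, D.cj_H₁ (inv_mem (F.sq_mem i))]

theorem conj_inv_mem_B {i : Bool} {x : G} : F.n i * x * (F.n i)⁻¹ ∈ F.B ↔
    (F.n i)⁻¹ * x * F.n i ∈ F.B := by
  have h1 := F.H₁_le (F.sq_mem i)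
  have e : F.n i * x * (F.n i)⁻¹ =
      (F.n i * F.n i) * ((F.n i)⁻¹ * x * F.n i) * (F.n i * F.n i)⁻¹ := by group
  rw [e, F.B.mul_mem_cancel_right (inv_mem h1), F.B.mul_mem_cancel_left h1]

namespace PRoot

variable {i : Bool} {E : Subgroup G} (R : PRoot F U i E)

include D R

/-- `E` is transitive on the other chambers of the panel. -/
theorem trans' {g : G} (hg : g ∈ F.P i) (hgB : g ∉ F.B) :
    ∃ e ∈ E, (F.n i)⁻¹ * (e⁻¹ * g) ∈ F.B := by
  rcases (F.memP i g).1 hg with h | ⟨b, hb, c, hc, rfl⟩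
  · exact absurd h hgB
  · obtain ⟨u, hu, hub⟩ := D.cover b hb
    obtain ⟨e, he, heu⟩ := R.trans u hu
    refine ⟨e, he, ?_⟩
    have h1 := F.conj_mem' i hub
    rw [mem_cj] at heu
    have e1 : (F.n i)⁻¹ * (e⁻¹ * (b * F.n i * c)) =
        ((F.n i)⁻¹ * (e⁻¹ * u) * F.n i) * ((F.n i)⁻¹ * (u⁻¹ * b) * F.n i) * c := by group
    rw [e1]
    exact mul_mem (mul_mem (D.le heu) (F.H₁_le h1)) hc

/-- The opposite root group is transitive on the other chambers of the panel. -/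
theorem trans_opp {g : G} (hg : g ∈ F.P i) (hgn : (F.n i)⁻¹ * g ∉ F.B) :
    ∃ e ∈ cj (F.n i) E, e⁻¹ * g ∈ F.B := by
  obtain ⟨e, he, h⟩ := R.trans' D (mul_mem (inv_mem (F.n_mem i)) hg) hgn
  refine ⟨_, conj_mem_cj he, ?_⟩
  have h1 := F.H₁_le (F.sq_mem i)
  have e1 : (F.n i * e * (F.n i)⁻¹)⁻¹ * g =
      (F.n i * F.n i) * ((F.n i)⁻¹ * (e⁻¹ * ((F.n i)⁻¹ * g))) := by group
  rw [e1]
  exact mul_mem h1 h

include hst

theorem eq_one {e : G} (he : e ∈ E) (h : (F.n i)⁻¹ * e * F.n i ∈ F.B) : e = 1 :=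
  R.reg e he (hst i e (R.le he) h)

theorem eq_one' {e : G} (he : e ∈ E) (h : F.n i * e * (F.n i)⁻¹ ∈ F.B) : e = 1 :=
  R.eq_one D hst he (conj_inv_mem_B.1 h)

omit hst in
theorem exists_ne : ∃ e ∈ E, e ≠ 1 := by
  by_contra hcon
  push Not at hcon
  apply D.thick i
  intro u hu
  obtain ⟨e, he, h⟩ := R.trans u hu
  rw [hcon e he, inv_one, one_mul] at h
  exact h

omit hst in
theorem comm_K {k : G} (hk : k ∈ E ⊔ cj (F.n i) E) {a : G} (ha : a ∈ CH F E) : k * a = a * k := by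
  have h1 : E ⊔ cj (F.n i) E ≤ Subgroup.centralizer (CH F E : Set G) := by
    refine sup_le (fun e he => ?_) ?_
    · rw [Subgroup.mem_centralizer_iff]
      intro a ha
      exact ((mem_CH.1 ha).2 e he).symm
    · intro x hx
      rw [Subgroup.mem_centralizer_iff]
      intro a ha
      have h2 := (mem_CH.1 (R.refl a ha)).2 _ (mem_cj.1 hx)
      calc a * x = F.n i * ((F.n i)⁻¹ * a * F.n i * ((F.n i)⁻¹ * x * F.n i)) * (F.n i)⁻¹ := by
            group
        _ = F.n i * ((F.n i)⁻¹ * x * F.n i * ((F.n i)⁻¹ * a * F.n i)) * (F.n i)⁻¹ := by rw [h2]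
        _ = x * a := by group
  have h2 := h1 hk
  rw [Subgroup.mem_centralizer_iff] at h2
  exact (h2 a ha).symm

omit D in
theorem CH_norm {h a : G} (hh : h ∈ F.H₁) (ha : a ∈ CH F E) : h * a * h⁻¹ ∈ CH F E := by
  rw [mem_CH] at ha ⊢
  have h1 := F.H₁_norm hh
  rw [Subgroup.mem_normalizer_iff] at h1
  refine ⟨(h1 a).1 ha.1, fun e he => ?_⟩
  have h2 := R.norm _ (inv_mem hh) e he
  have h3 := ha.2 _ h2
  rw [inv_inv] at h3
  calc e * (h * a * h⁻¹) = h * (h⁻¹ * e * h * a) * h⁻¹ := by group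
    _ = h * (a * (h⁻¹ * e * h)) * h⁻¹ := by rw [h3]
    _ = h * a * h⁻¹ * e := by group

include hU hUH

/-- An element of `⟨E, E⁻⟩` representing the reflection modulo `H₁`. -/
theorem exists_refl (C : Ctl (CH F E) E) : ∃ l ∈ E ⊔ cj (F.n i) E, (F.n i)⁻¹ * l ∈ F.H₁ := by
  have hEB : E ≤ F.B := R.le.trans D.le
  have hEP : E ≤ F.P i := hEB.trans (F.B_le i)
  have hE'P : cj (F.n i) E ≤ F.P i := by
    rw [SetLike.le_def, forall_mem_cj]
    exact fun x hx => mul_mem (mul_mem (F.n_mem i) (hEP hx)) (inv_mem (F.n_mem i))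
  obtain ⟨e₁, he₁, he₁1⟩ := R.exists_ne D
  set e' := F.n i * e₁ * (F.n i)⁻¹ with he'
  have he'E : e' ∈ cj (F.n i) E := conj_mem_cj he₁
  have he'B : e' ∉ F.B := fun h => he₁1 (R.eq_one' D hst he₁ h)
  obtain ⟨e₂, he₂, h₂⟩ := R.trans' D (hE'P he'E) he'B
  -- `e₂⁻¹ e' = n b₁`
  have he₂1 : e₂ ≠ 1 := by
    rintro rfl
    rw [inv_one, one_mul] at h₂
    have e3 : (F.n i)⁻¹ * e' = e₁ * (F.n i)⁻¹ := by rw [he']; group
    rw [e3] at h₂
    exact F.n_not i (inv_mem_iff.1 ((F.B.mul_mem_cancel_left (hEB he₁)).1 h₂))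
  have h₃ : (F.n i)⁻¹ * (e₂⁻¹ * F.n i) ∉ F.B := by
    intro h
    rw [← mul_assoc] at h
    exact he₂1 (inv_eq_one.1 (R.eq_one D hst (inv_mem he₂) h))
  obtain ⟨f, hf, hfB⟩ := R.trans_opp D (mul_mem (inv_mem (hEP he₂)) (F.n_mem i)) h₃
  -- `l = f⁻¹ e₂⁻¹ e'`
  refine ⟨f⁻¹ * e₂⁻¹ * e', ?_, ?_⟩
  · exact mul_mem (mul_mem (inv_mem (Subgroup.mem_sup_right hf))
      (inv_mem (Subgroup.mem_sup_left he₂))) (Subgroup.mem_sup_right he'E)
  set l := f⁻¹ * e₂⁻¹ * e' with hl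
  have hlK : l ∈ E ⊔ cj (F.n i) E := mul_mem (mul_mem (inv_mem (Subgroup.mem_sup_right hf))
      (inv_mem (Subgroup.mem_sup_left he₂))) (Subgroup.mem_sup_right he'E)
  set b := (F.n i)⁻¹ * l with hb
  have hbB : b ∈ F.B := by
    have h4 : (F.n i)⁻¹ * f * F.n i ∈ F.B := hEB (mem_cj.1 hf)
    have e4 : b = ((F.n i)⁻¹ * f * F.n i)⁻¹ * ((F.n i)⁻¹ * (e₂⁻¹ * e')) := by
      rw [hb, hl]; group
    rw [e4]
    exact mul_mem (inv_mem h4) h₂
  have hlB : l * F.n i ∈ F.B := by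
    have e5 : l * F.n i = (f⁻¹ * (e₂⁻¹ * F.n i)) * e₁ := by rw [hl, he']; group
    rw [e5]
    exact mul_mem hfB (hEB he₁)
  have hbn : (F.n i)⁻¹ * b * F.n i ∈ F.B := by
    have e6 : (F.n i)⁻¹ * b * F.n i = (F.n i * F.n i)⁻¹ * (l * F.n i) := by rw [hb]; group
    rw [e6]
    exact mul_mem (inv_mem (F.H₁_le (F.sq_mem i))) hlB
  -- `b` normalises `A`
  have hbA : ∀ a ∈ CH F E, b * a * b⁻¹ ∈ CH F E := by
    intro a ha
    have e7 : b * a * b⁻¹ = (F.n i)⁻¹ * (l * a * l⁻¹) * F.n i := by rw [hb]; group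
    rw [e7, R.comm_K D hlK ha, mul_inv_cancel_right]
    exact R.refl a ha
  obtain ⟨u, hu, hub⟩ := D.cover b hbB
  set h := u⁻¹ * b with hh
  have hub' : u = b * h⁻¹ := by rw [hh]; group
  have huA : ∀ a ∈ CH F E, u * a * u⁻¹ ∈ CH F E := by
    intro a ha
    have h8 := R.CH_norm hst (inv_mem hub) ha
    rw [inv_inv] at h8
    have h9 := hbA _ h8
    have e9 : b * (h⁻¹ * a * h) * b⁻¹ = u * a * u⁻¹ := by rw [hub']; group
    rwa [e9] at h9
  have huc : ∀ a ∈ CH F E, u * a = a * u := by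
    intro a ha
    have h10 : u * a * u⁻¹ * a⁻¹ ∈ F.H := mul_mem (mem_CH.1 (huA a ha)).1 (inv_mem (mem_CH.1 ha).1)
    have h11 : u * a * u⁻¹ * a⁻¹ ∈ U := by
      have := mul_mem hu (D.norm a (F.H_le (mem_CH.1 ha).1) _ (inv_mem hu))
      have e11 : u * (a * u⁻¹ * a⁻¹) = u * a * u⁻¹ * a⁻¹ := by group
      rwa [e11] at this
    have h12 : u * a * u⁻¹ * a⁻¹ ∈ U ⊓ F.H := ⟨h11, h10⟩
    rw [hUH, Subgroup.mem_bot] at h12
    rw [mul_inv_eq_one] at h12
    exact mul_inv_eq_iff_eq_mul.1 h12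
  have huE : u ∈ E := by
    refine C.syl (U ⊓ Subgroup.centralizer (CH F E : Set G)) (hU.to_le inf_le_left) ?_ ?_ ?_
    · intro x hx a ha
      exact (Subgroup.mem_centralizer_iff.1 hx.2 a ha).symm
    · intro e he
      exact Subgroup.mem_inf.2 ⟨R.le he,
        Subgroup.mem_centralizer_iff.2 fun a ha => ((mem_CH.1 ha).2 e he).symm⟩
    · exact Subgroup.mem_inf.2 ⟨hu,
        Subgroup.mem_centralizer_iff.2 fun a ha => (huc a ha).symm⟩
  have hu1 : u = 1 := by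
    refine R.eq_one D hst huE ?_
    have e13 : (F.n i)⁻¹ * u * F.n i = ((F.n i)⁻¹ * b * F.n i) * ((F.n i)⁻¹ * h⁻¹ * F.n i) := by
      rw [hub']; group
    rw [e13]
    exact mul_mem hbn (F.H₁_le (F.conj_mem' i (inv_mem hub)))
  have : b = h := by rw [hh, hu1, inv_one, one_mul]
  rw [this]
  exact hub

/-- The root pair of a panel. -/
theorem root (C : Ctl (CH F E) E) : Root (CH F E) E (E ⊔ cj (F.n i) E) := by
  obtain ⟨l, hl, hlh⟩ := R.exists_refl D hU hUH hst C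
  set h := (F.n i)⁻¹ * l with hh
  have hl' : l = F.n i * h := by rw [hh]; group
  obtain ⟨e₁, he₁, he₁1⟩ := R.exists_ne D
  refine ⟨le_sup_left, fun k hk a ha => R.comm_K D hk ha, hU.to_le R.le, C.syl, C.pair, C.cent,
    C.norm, ⟨l, hl, e₁, he₁, ?_⟩, ?_⟩
  · intro hmem
    have h1 : F.n i * (h * e₁ * h⁻¹) * (F.n i)⁻¹ ∈ F.B := by
      have e : F.n i * (h * e₁ * h⁻¹) * (F.n i)⁻¹ = l * e₁ * l⁻¹ := by rw [hl']; group
      rw [e]
      exact D.le (R.le hmem)
    have h2 := R.eq_one' D hst (R.norm h hlh e₁ he₁) h1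
    exact he₁1 (conj_eq_one_iff.1 h2)
  · refine sup_le (fun e he => ?_) ?_
    · exact Subgroup.subset_closure ⟨1, one_mem _, e, he, by group⟩
    · rw [SetLike.le_def, forall_mem_cj]
      intro e he
      have h3 := R.norm _ (inv_mem hlh) e he
      exact Subgroup.subset_closure ⟨l, hl, _, h3, by rw [hl']; group⟩

end PRoot

end Panel

theorem _root_.Cfsg.Agent.Omega.RootLemma.Root.cj {G : Type u} [Group G] {A E K : Subgroup G}
    (h : Root A E K) (g : G) : Root (Tree.cj g A) (Tree.cj g E) (Tree.cj g K) := by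
  have C : Ctl (Tree.cj g A) (Tree.cj g E) := Ctl.cj ⟨h.syl, h.pair, h.cent, h.norm⟩ g
  refine ⟨cj_mono h.le, ?_, isPGroup_cj h.two g, C.syl, C.pair, C.cent, C.norm, ?_, ?_⟩
  · rw [forall_mem_cj]
    intro k hk
    rw [forall_mem_cj]
    intro a ha
    calc g * k * g⁻¹ * (g * a * g⁻¹) = g * (k * a) * g⁻¹ := by group
      _ = g * (a * k) * g⁻¹ := by rw [h.comm k hk a ha]
      _ = g * a * g⁻¹ * (g * k * g⁻¹) := by group
  · obtain ⟨k, hk, v, hv, hne⟩ := h.mv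
    refine ⟨_, conj_mem_cj hk, _, conj_mem_cj hv, fun hmem => hne ?_⟩
    have e : g * k * g⁻¹ * (g * v * g⁻¹) * (g * k * g⁻¹)⁻¹ = g * (k * v * k⁻¹) * g⁻¹ := by group
    rw [e, mem_cj] at hmem
    have e' : g⁻¹ * (g * (k * v * k⁻¹) * g⁻¹) * g = k * v * k⁻¹ := by group
    rwa [e'] at hmem
  · refine (cj_mono (g := g) h.gen).trans ?_
    show Subgroup.map _ _ ≤ _
    rw [MonoidHom.map_closure, Subgroup.closure_le]
    rintro _ ⟨_, ⟨k, hk, v, hv, rfl⟩, rfl⟩
    refine Subgroup.subset_closure ⟨_, conj_mem_cj hk, _, conj_mem_cj hv, ?_⟩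
    show g * (k * v * k⁻¹) * g⁻¹ = _
    group

section Close

variable {G : Type u} [Group G] [Finite G] {F : Frame G} {U : Subgroup G} {m : ℕ}
variable (D : Data F U) (M : Sym F U m) (hK : Ker F U = ⊥)

include D M hK

/-- The root group of the panel of type `true`. -/
theorem pRoot_true (hr : ∀ a ∈ CH F (X F U m (1 - m)),
    (F.n true)⁻¹ * a * F.n true ∈ CH F (X F U m (1 - m))) :
    PRoot F U true (X F U m (1 - m)) := by
  have hm := M.pos
  refine ⟨?_, ?_, ?_, ?_, hr⟩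
  · have := S_le (F := F) (U := U) (i := 1 - m) (j := 1) (k := 0) (by omega) (by omega)
    rw [W_zero] at this
    rw [X, sub_add_cancel]
    exact this
  · intro h hh e he k h1 h2
    rw [← D.cj_H₁_W hh k]
    exact conj_mem_cj (he k h1 h2)
  · intro u hu
    have h1 := M.not_le_succ (i := 1 - m) (j := 1) (by omega) (by omega)
    obtain ⟨x, hx, hxu⟩ := D.trans_fwd (by omega) h1 (u := u) (by rw [sub_self, W_zero]; exact hu)
    refine ⟨x, ?_, ?_⟩
    · rw [X, sub_add_cancel]; exact hx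
    · rw [← D.W_one]; exact hxu
  · intro e he he'
    have h1 := M.X_inf_succ D he (by rw [sub_add_cancel, D.W_one]; exact he')
    rwa [hK, Subgroup.mem_bot] at h1

/-- The root group of the panel of type `false`. -/
theorem pRoot_false (hr : ∀ a ∈ CH F (X F U m 0),
    (F.n false)⁻¹ * a * F.n false ∈ CH F (X F U m 0)) :
    PRoot F U false (X F U m 0) := by
  have hm := M.pos
  refine ⟨?_, ?_, ?_, ?_, hr⟩
  · have := S_le (F := F) (U := U) (i := 0) (j := m) (k := 0) (by omega) (by omega)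
    rw [W_zero] at this
    rw [X, zero_add]
    exact this
  · intro h hh e he k h1 h2
    rw [← D.cj_H₁_W hh k]
    exact conj_mem_cj (he k h1 h2)
  · intro u hu
    have h1 := M.not_le_pred D (i := 0) (j := 0 + m) (by omega) (by omega)
    obtain ⟨x, hx, hxu⟩ := D.trans_bwd (by omega) h1 (u := u) (by rw [W_zero]; exact hu)
    refine ⟨x, hx, ?_⟩
    rw [← D.W_neg_one, ← zero_sub]; exact hxu
  · intro e he he'
    have h1 := M.X_inf_pred D he (by rw [zero_sub, D.W_neg_one]; exact he')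
    rwa [hK, Subgroup.mem_bot] at h1

/-- **The braid relation in the symmetric case.** -/
theorem braid (hB : Bender.{u}) (hU : IsPGroup 2 U) (hUH : U ⊓ F.H = ⊥)
    (hst : ∀ i, ∀ u ∈ U, (F.n i)⁻¹ * u * F.n i ∈ F.B → u ∈ cj (F.n i) U)
    (C : Ctl (CH F (X F U m (1 - m))) (X F U m (1 - m)))
    (ht : ∀ a ∈ CH F (X F U m (1 - m)), (F.n true)⁻¹ * a * F.n true ∈ CH F (X F U m (1 - m)))
    (hf : ∀ a ∈ CH F (X F U m 0), (F.n false)⁻¹ * a * F.n false ∈ CH F (X F U m 0)) :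
    F.Braid m := by
  have hm := M.pos
  obtain ⟨m', rfl⟩ : ∃ m' : ℕ, m = m' + 1 := ⟨m - 1, by omega⟩
  have R := pRoot_true D M hK ht
  set E := X F U (m' + 1) (1 - (m' + 1 : ℕ)) with hE
  have h1 := R.root D hU hUH hst C
  obtain ⟨l, hl, hlh⟩ := R.exists_refl D hU hUH hst C
  have hle : ∀ i (E' : Subgroup G), E' ≤ U → E' ⊔ cj (F.n i) E' ≤ F.P i := by
    intro i E' hE'
    have h2 : E' ≤ F.P i := (hE'.trans D.le).trans (F.B_le i)
    refine sup_le h2 ?_
    rw [SetLike.le_def, forall_mem_cj]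
    exact fun x hx => mul_mem (mul_mem (F.n_mem i) (h2 hx)) (inv_mem (F.n_mem i))
  have hw : alt F.n false m' = word F (-(m' : ℤ)) := (word_neg F m').symm
  have hwN : alt F.n false m' ∈ Subgroup.normalizer (F.H : Set G) := F.alt_mem_norm' _ _
  by_cases hpar : Odd m'
  · refine F.braid_of_root (i := true) hB h1 hl hlh (hle true E R.le) hpar ?_
    have h3 : cj (alt F.n false m') E = E := by
      rw [hw, hE, X, D.word_odd_S (by rwa [even_neg, Int.even_coe_nat, Nat.not_even_iff_odd])]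
      congr 1 <;> push_cast <;> ring
    have h4 : cj (alt F.n false m') (CH F E) = CH F E := by
      rw [← CH_cj hwN, h3]
    intro a ha
    rw [Bool.not_true, ← mem_cj, h4]
    exact ha
  · rw [Nat.not_odd_iff_even] at hpar
    have R' := pRoot_false D M hK hf
    set E' := X F U (m' + 1) 0 with hE'
    have h3 : cj (alt F.n false m') E' = E := by
      rw [hw, hE', hE, X, X, D.word_even_S (by rwa [even_neg, Int.even_coe_nat])]
      congr 1 <;> push_cast <;> ring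
    have h4 : cj (alt F.n false m') (CH F E') = CH F E := by
      rw [← CH_cj hwN, h3]
    have C' : Ctl (CH F E') E' := by
      have e1 : cj (alt F.n false m')⁻¹ (CH F E) = CH F E' := by
        rw [← h4, cj_cj, inv_mul_cancel, cj_one]
      have e2 : cj (alt F.n false m')⁻¹ E = E' := by
        rw [← h3, cj_cj, inv_mul_cancel, cj_one]
      have := C.cj (alt F.n false m')⁻¹
      rwa [e1, e2] at this
    have h5 := (R'.root D hU hUH hst C').cj (alt F.n false m')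
    rw [h3, h4] at h5
    refine F.braid_of_roots (i := true) hB h1 h5 hl hlh ?_
    intro k hk
    have hnx : nxt (!true) m' = false := by
      obtain ⟨r, rfl⟩ := hpar
      simp [nxt, Nat.bodd_add]
    rw [hnx]
    exact hle false E' R'.le (mem_cj.1 hk)

/-- **Closing theorem in the symmetric case.** -/
theorem exists_split (hB : Bender.{u}) (hU : IsPGroup 2 U) (hUH : U ⊓ F.H = ⊥)
    (hst : ∀ i, ∀ u ∈ U, (F.n i)⁻¹ * u * F.n i ∈ F.B → u ∈ cj (F.n i) U)
    (C : Ctl (CH F (X F U m (1 - m))) (X F U m (1 - m)))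
    (ht : ∀ a ∈ CH F (X F U m (1 - m)), (F.n true)⁻¹ * a * F.n true ∈ CH F (X F U m (1 - m)))
    (hf : ∀ a ∈ CH F (X F U m 0), (F.n false)⁻¹ * a * F.n false ∈ CH F (X F U m 0))
    {Y : Subgroup G} (hY : F.P false ⊔ F.P true = Y) :
    ∃ Q : Cfsg.BNPair Y, Q.rank = 2 ∧ Q.IsSplit ∧ Q.B = F.B.subgroupOf Y ∧
      (∀ x : Y, x ∈ Q.N ↔ (x : G) ∈ F.N) := by
  refine F.exists_split_sup (braid D M hK hB hU hUH hst C ht hf) M.pos (fun k hk => M.pathTo D hk)
    ?_ U D.le D.norm hU.isNilpotent ?_ hY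
  · intro i
    by_contra hcon
    push Not at hcon
    apply D.thick i
    intro u hu
    exact hst i u hu (conj_inv_mem_B.1 (hcon u (D.le hu)))
  · intro b hb
    obtain ⟨u, hu, hub⟩ := D.cover b hb
    exact ⟨u, hu, F.H₁_norm hub⟩

end Close

end Cfsg.Agent.Omega.Tree
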