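import Cfsg.Agent.Omega.Tree.Basic

/-!
# Tree lemma, II: the lengths

For every vertex `j` there is a length `len j ≥ 1` such that `S (j - l) j` (`l ≥ 1`) is trivial on the
panel `j` if and only if `l > len j`; the same for the backward direction.  `len` has period two.
If `len 0 ≠ len 1` then both are even.
-/

set_option autoImplicit false

namespace Cfsg.Agent.Omega.Tree

open Cfsg.Agent.RankTwoClose

variable {G : Type*} [Group G] {F : Frame G} {U : Subgroup G}

/-- `S (j - l) j` is nontrivial on the panel `j`. -/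
def Fwd (F : Frame G) (U : Subgroup G) (j : ℤ) (l : ℕ) : Prop := ¬ S F U (j - l) j ≤ W F U j

/-- `S j (j + l)` is nontrivial on the panel `j`. -/
def Bwd (F : Frame G) (U : Subgroup G) (j : ℤ) (l : ℕ) : Prop := ¬ S F U j (j + l) ≤ W F U (j - 1)

theorem Fwd.anti {j : ℤ} {l l' : ℕ} (h : Fwd F U j l) (hl : l' ≤ l) : Fwd F U j l' :=
  fun h' => h ((S_anti (by omega) le_rfl).trans h')

theorem Bwd.anti {j : ℤ} {l l' : ℕ} (h : Bwd F U j l) (hl : l' ≤ l) : Bwd F U j l' :=
  fun h' => h ((S_anti le_rfl (by omega)).trans h')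

variable (D : Data F U)

namespace Data

include D

/-- Reflection at the vertex `1`. -/
theorem true_S (i j : ℤ) : cj (F.n true) (S F U i j) = S F U (2 - j) (2 - i) := by
  have := cj_S_rf (g := F.n true) (c := 1) (fun l => D.cj_true l) i j
  rw [this]; congr 1

/-- Reflection at the vertex `0`. -/
theorem false_S (i j : ℤ) : cj (F.n false) (S F U i j) = S F U (-j) (-i) := by
  have := cj_S_rf (g := F.n false) (c := -1) (fun l => D.cj_false l) i j
  rw [this]; congr 1 <;> ring

theorem word_even_S {c : ℤ} (hc : Even c) (i j : ℤ) :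
    cj (word F c) (S F U i j) = S F U (i + c) (j + c) :=
  cj_S_tr (D.cj_word_even hc) i j

theorem word_odd_S {c : ℤ} (hc : ¬ Even c) (i j : ℤ) :
    cj (word F c) (S F U i j) = S F U (c + 1 - j) (c + 1 - i) :=
  cj_S_rf (D.cj_word_odd hc) i j

theorem card_S_even {c : ℤ} (hc : Even c) (i j : ℤ) :
    Nat.card (S F U (i + c) (j + c)) = Nat.card (S F U i j) := by
  rw [← D.word_even_S hc, card_cj]

theorem fwd_even {j c : ℤ} (hc : Even c) (l : ℕ) : Fwd F U (j + c) l ↔ Fwd F U j l := by
  unfold Fwd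
  rw [not_iff_not, ← cj_le_cj (g := word F c) (U := S F U (j - l) j), D.word_even_S hc,
    D.cj_word_even hc]
  rw [sub_add_eq_add_sub]

/-- Reflection: backward at the vertex `c + 1 - j` is forward at the vertex `j`. -/
theorem bwd_odd {j c : ℤ} (hc : ¬ Even c) (l : ℕ) : Bwd F U (c + 1 - j) l ↔ Fwd F U j l := by
  unfold Fwd Bwd
  rw [not_iff_not, ← cj_le_cj (g := word F c) (U := S F U (j - l) j), D.word_odd_S hc,
    D.cj_word_odd hc]
  have e1 : c + 1 - (j - l) = c + 1 - j + l := by ring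
  have e2 : c - j = c + 1 - j - 1 := by ring
  rw [e1, e2]

theorem bwd_iff_fwd (j : ℤ) (l : ℕ) : Bwd F U j l ↔ Fwd F U j l := by
  have h : ¬ Even (2 * j - 1) := by
    intro h
    have : Even (2 * j - 1 + 1) ↔ ¬ Even (2 * j - 1) := Int.even_add_one
    rw [sub_add_cancel] at this
    exact (this.1 (even_two_mul j)) h
  have := D.bwd_odd (j := j) h l
  have e : 2 * j - 1 + 1 - j = j := by ring
  rwa [e] at this

theorem fwd_one (j : ℤ) : Fwd F U j 1 := by
  intro h
  have h1 := D.thick_succ (j - 1)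
  rw [sub_add_cancel] at h1
  apply h1
  have : S F U (j - (1 : ℕ)) j = W F U (j - 1) := by
    have := S_single (F := F) (U := U) (j - 1)
    rw [sub_add_cancel] at this
    rw [← this]; rfl
  rwa [this] at h

/-- Long path groups are trivial on the panel. -/
theorem exists_not_fwd [Finite G] (j : ℤ) : ∃ l : ℕ, 1 ≤ l ∧ ¬ Fwd F U j l := by
  by_contra hcon
  push Not at hcon
  -- a path group of minimal order
  obtain ⟨l, hl⟩ : ∃ l : ℕ, ∀ l' : ℕ,
      Nat.card (S F U (j - l) j) ≤ Nat.card (S F U (j - l') j) := by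
    have h1 : ∃ n, ∃ l : ℕ, Nat.card (S F U (j - l) j) = n := ⟨_, 0, rfl⟩
    classical
    obtain ⟨l, hl⟩ := Nat.find_spec h1
    exact ⟨l, fun l' => by rw [hl]; exact Nat.find_min' h1 ⟨l', rfl⟩⟩
  have hl1 : Fwd F U j l := by
    rcases Nat.eq_zero_or_pos l with rfl | h
    · exact (hcon 1 le_rfl).anti (Nat.zero_le _)
    · exact hcon l h
  have h2 : S F U (j - l) (j + 2) < S F U (j - l) j := by
    refine lt_of_le_of_ne (S_anti le_rfl (by omega)) fun e => hl1 ?_
    rw [← e]
    exact S_le (by omega) (by omega)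
  have h3 : Nat.card (S F U (j - l) (j + 2)) < Nat.card (S F U (j - l) j) :=
    lt_of_le_of_ne (Subgroup.card_le_of_le h2.le)
      fun h => h2.ne (Subgroup.eq_of_le_of_card_ge h2.le h.ge)
  have h4 := D.card_S_even even_two (j - (l + 2 : ℕ)) j
  have e : j - ((l + 2 : ℕ) : ℤ) + 2 = j - l := by push_cast; ring
  rw [e] at h4
  rw [h4] at h3
  exact absurd (hl (l + 2)) (not_le.2 h3)

/-- The length at the vertex `j`. -/
theorem exists_len [Finite G] (j : ℤ) : ∃ m : ℕ, 1 ≤ m ∧ ∀ l : ℕ, Fwd F U j l ↔ l ≤ m := by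
  classical
  have hex := D.exists_not_fwd j
  set n := Nat.find hex with hn
  obtain ⟨h1, h2⟩ := Nat.find_spec hex
  rw [← hn] at h1 h2
  have h3 : n ≠ 1 := fun e => h2 (e ▸ D.fwd_one j)
  refine ⟨n - 1, by omega, fun l => ⟨fun h => ?_, fun h => ?_⟩⟩
  · by_contra hlt
    exact h2 (h.anti (by omega))
  · rcases Nat.eq_zero_or_pos l with rfl | hl
    · exact (D.fwd_one j).anti (Nat.zero_le _)
    · have := Nat.find_min hex (m := l) (by omega)
      by_contra hne
      exact this ⟨hl, hne⟩

end Data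

/-- The lengths. -/
structure IsLen (F : Frame G) (U : Subgroup G) (m : ℤ → ℕ) : Prop where
  pos : ∀ j, 1 ≤ m j
  fwd : ∀ j l, Fwd F U j l ↔ l ≤ m j

namespace IsLen

variable {m : ℤ → ℕ} (M : IsLen F U m)

include M

theorem unique {m' : ℤ → ℕ} (M' : IsLen F U m') : m = m' := by
  funext j
  apply le_antisymm
  · exact (M'.fwd j _).1 ((M.fwd j _).2 le_rfl)
  · exact (M.fwd j _).1 ((M'.fwd j _).2 le_rfl)

include D

theorem bwd (j : ℤ) (l : ℕ) : Bwd F U j l ↔ l ≤ m j := by
  rw [D.bwd_iff_fwd, M.fwd]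

theorem even {j c : ℤ} (hc : Even c) : m (j + c) = m j := by
  apply le_antisymm
  · rw [← M.fwd, ← D.fwd_even hc, M.fwd]
  · rw [← M.fwd, D.fwd_even hc, M.fwd]

/-- **Exchange**: the other end of the longest path group has the same length. -/
theorem sub_self (j : ℤ) : m (j - m j) = m j := by
  have h1 : ¬ S F U (j - m j) j ≤ W F U j := (M.fwd j _).2 le_rfl
  have h2 : S F U (j - m j - 1) j ≤ W F U j := by
    by_contra h
    have : Fwd F U j (m j + 1) := by
      unfold Fwd
      have e : j - ((m j + 1 : ℕ) : ℤ) = j - m j - 1 := by push_cast; ring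
      rwa [e]
    have := (M.fwd j _).1 this
    omega
  have hpos := M.pos j
  obtain ⟨h3, h4⟩ := D.exch (by omega) h1 h2
  apply le_antisymm
  · by_contra hlt
    rw [not_le] at hlt
    have h5 : Bwd F U (j - m j) (m j + 1) := (M.bwd D _ _).2 (by omega)
    apply h5
    have e : j - (m j : ℤ) + ((m j + 1 : ℕ) : ℤ) = j + 1 := by push_cast; ring
    rwa [e]
  · rw [← M.bwd D]
    unfold Bwd
    rwa [sub_add_cancel]

/-- Either the two lengths are equal, or both are even. -/
theorem eq_or_even : m 0 = m 1 ∨ Even (m 0) ∧ Even (m 1) := by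
  have h0 := M.sub_self D 0
  have h1 := M.sub_self D 1
  by_cases e0 : Even (m 0)
  · by_cases e1 : Even (m 1)
    · exact Or.inr ⟨e0, e1⟩
    · left
      have h2 : Even ((1 : ℤ) - m 1) := by
        rw [Int.even_sub']
        simpa using e1
      have h3 := M.even D (j := 0) h2
      rw [zero_add] at h3
      rw [← h3, h1]
  · left
    have h2 : Even ((0 : ℤ) - m 0 - 1) := by
      rw [Int.even_sub']
      simp only [zero_sub, odd_neg, odd_one, iff_true]
      rw [Nat.not_even_iff_odd] at e0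
      exact_mod_cast e0
    have h3 := M.even D (j := 1) h2
    rw [add_sub_cancel] at h3
    rw [← h0, h3]

/-- A function of period two. -/
theorem eq_of_parity {j k : ℤ} (h : Even (j - k)) : m j = m k := by
  have := M.even D (j := k) h
  rwa [add_sub_cancel] at this

end IsLen

include D in
theorem Data.exists_isLen [Finite G] : ∃ m : ℤ → ℕ, IsLen F U m := by
  choose m h1 h2 using fun j => D.exists_len j
  exact ⟨m, h1, h2⟩

/-- The symmetric case: all lengths are `m`. -/
structure Sym (F : Frame G) (U : Subgroup G) (m : ℕ) : Prop where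
  pos : 1 ≤ m
  fwd : ∀ j l, Fwd F U j l ↔ l ≤ m

theorem Sym.bwd {m : ℕ} (M : Sym F U m) (D : Data F U) (j : ℤ) (l : ℕ) :
    Bwd F U j l ↔ l ≤ m := by
  rw [D.bwd_iff_fwd, M.fwd]

include D in
/-- **Tree lemma**: symmetric, or two different even lengths. -/
theorem Data.sym_or [Finite G] : (∃ m : ℕ, Sym F U m) ∨
    ∃ m : ℤ → ℕ, IsLen F U m ∧ Even (m 0) ∧ Even (m 1) ∧ m 0 ≠ m 1 := by
  obtain ⟨m, M⟩ := D.exists_isLen
  by_cases h : m 0 = m 1
  · left
    refine ⟨m 0, M.pos 0, fun j l => ?_⟩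
    rw [M.fwd]
    have : m j = m 0 := by
      rcases Int.even_or_odd j with hj | hj
      · exact M.eq_of_parity D (by simpa using hj)
      · rw [h]
        exact M.eq_of_parity D (by rw [Int.even_sub']; simpa using hj)
    rw [this]
  · rcases M.eq_or_even D with h' | ⟨h1, h2⟩
    · exact absurd h' h
    · exact Or.inr ⟨m, M, h1, h2, h⟩

end Cfsg.Agent.Omega.Tree
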