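import Cfsg.Agent.Omega.Tree.Length

/-!
# Tree lemma, III: the symmetric case

All lengths are equal to `m`: the property `(PATH)` of `RankTwoClose` for the galleries of length at
most `m`, the kernel of the apartment is normal, the root groups `X k = S k (k + m)`.
-/

set_option autoImplicit false
set_option linter.unusedSectionVars false

namespace Cfsg.Agent.Omega.Tree

open Cfsg.Agent.RankTwoClose

variable {G : Type*} [Group G] {F : Frame G} {U : Subgroup G}

/-- **(PATH)**. -/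
theorem Data.pathTo (D : Data F U) {k : ℕ} (h : ∀ j, Fwd F U j (k + 1)) : F.PathTo k := by
  intro i b hb
  obtain ⟨u, hu, hub⟩ := D.cover b hb
  set n := F.n (nxt i k) with hn
  have hh' : n⁻¹ * (u⁻¹ * b) * n ∈ F.H₁ := F.conj_mem' _ hub
  -- the end of the argument, for `w = word F l`
  have key : ∀ w w' : G, w' = w * n → (∃ x ∈ U, x⁻¹ * (w * u * w⁻¹) ∈ cj w' U) →
      ∃ c ∈ F.B, ∃ d ∈ F.B, w * b * n = c * w' * d := by
    rintro w w' rfl ⟨x, hx, hy⟩
    rw [mem_cj] at hy
    refine ⟨x, D.le hx, _, mul_mem (D.le hy) (F.H₁_le hh'), ?_⟩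
    group
  cases i
  · -- towards `- ∞`
    have e1 : alt F.n false k = word F (-(k : ℤ)) := (word_neg F k).symm
    have e2 : alt F.n false (k + 1) = word F (-(k : ℤ) - 1) := by
      rw [← word_neg]; congr 1; push_cast; ring
    rw [e1, e2]
    refine key _ _ ?_ ?_
    · rw [← e1, ← e2, alt_succ']
    · have h1 : ¬ S F U (-(k : ℤ)) 1 ≤ W F U (-(k : ℤ) - 1) := by
        have := (D.bwd_iff_fwd (-(k : ℤ)) (k + 1)).2 (h _)
        unfold Bwd at this
        have e : -(k : ℤ) + ((k + 1 : ℕ) : ℤ) = 1 := by push_cast; ring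
        rwa [e] at this
      obtain ⟨x, hx, hy⟩ := D.trans_bwd (by omega) h1 (u := word F (-(k : ℤ)) * u *
        (word F (-(k : ℤ)))⁻¹) (conj_mem_cj hu)
      refine ⟨x, ?_, hy⟩
      have := hx 0 (by omega) (by omega)
      rwa [W_zero] at this
  · have e1 : alt F.n true k = word F (k : ℤ) := rfl
    have e2 : alt F.n true (k + 1) = word F ((k : ℤ) + 1) := rfl
    rw [e1, e2]
    refine key _ _ ?_ ?_
    · rw [← e1, ← e2, alt_succ']
    · have h1 : ¬ S F U 0 ((k : ℤ) + 1) ≤ W F U ((k : ℤ) + 1) := by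
        have := h ((k : ℤ) + 1)
        unfold Fwd at this
        have e : (k : ℤ) + 1 - ((k + 1 : ℕ) : ℤ) = 0 := by push_cast; ring
        rwa [e] at this
      obtain ⟨x, hx, hy⟩ := D.trans_fwd (by omega) h1 (u := word F (k : ℤ) * u *
        (word F (k : ℤ))⁻¹) (by rw [add_sub_cancel_right]; exact conj_mem_cj hu)
      refine ⟨x, ?_, hy⟩
      have := hx 0 (by omega) (by omega)
      rwa [W_zero] at this

/-- The kernel of the apartment. -/
def Ker (F : Frame G) (U : Subgroup G) : Subgroup G where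
  carrier := {x | ∀ k : ℤ, x ∈ W F U k}
  mul_mem' := fun ha hb k => mul_mem (ha k) (hb k)
  one_mem' := fun _ => one_mem _
  inv_mem' := fun ha k => inv_mem (ha k)

theorem mem_Ker {x : G} : x ∈ Ker F U ↔ ∀ k : ℤ, x ∈ W F U k := Iff.rfl

theorem Ker_le_S (i j : ℤ) : Ker F U ≤ S F U i j := fun _ hx k _ _ => hx k

variable (D : Data F U)

namespace Data

include D

theorem cj_H₁_W {h : G} (hh : h ∈ F.H₁) (k : ℤ) : cj h (W F U k) = W F U k := by
  have h1 := word_mem_norm F k
  rw [Subgroup.mem_normalizer_iff''] at h1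
  have e : h * word F k = word F k * ((word F k)⁻¹ * h * word F k) := by group
  rw [W, cj_cj, e, ← cj_cj, D.cj_H₁ ((h1 h).1 hh)]

theorem ker_H₁ {h : G} (hh : h ∈ F.H₁) {x : G} (hx : x ∈ Ker F U) : h * x * h⁻¹ ∈ Ker F U := by
  intro k
  rw [← D.cj_H₁_W hh k]
  exact conj_mem_cj (hx k)

theorem ker_n (i : Bool) {x : G} (hx : x ∈ Ker F U) : F.n i * x * (F.n i)⁻¹ ∈ Ker F U := by
  intro k
  cases i
  · have h := D.cj_false (-1 - k)
    rw [sub_sub_cancel] at h
    rw [← h]
    exact conj_mem_cj (hx _)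
  · have h := D.cj_true (1 - k)
    rw [sub_sub_cancel] at h
    rw [← h]
    exact conj_mem_cj (hx _)

end Data

namespace Sym

variable {m : ℕ} (M : Sym F U m)

include M

theorem le_succ {i j : ℤ} (h : i + m < j) : S F U i j ≤ W F U j := by
  by_contra hne
  obtain ⟨l, rfl⟩ : ∃ l : ℕ, i = j - l := ⟨(j - i).toNat, by omega⟩
  have := (M.fwd j l).1 hne
  omega

theorem not_le_succ {i j : ℤ} (h : i < j) (h' : j ≤ i + m) : ¬ S F U i j ≤ W F U j := by
  obtain ⟨l, rfl⟩ : ∃ l : ℕ, i = j - l := ⟨(j - i).toNat, by omega⟩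
  exact (M.fwd j l).2 (by omega)

include D

theorem pathTo {k : ℕ} (hk : k < m) : F.PathTo k :=
  D.pathTo fun j => (M.fwd j _).2 (by omega)

theorem le_pred {i j : ℤ} (h : i + m < j) : S F U i j ≤ W F U (i - 1) := by
  by_contra hne
  obtain ⟨l, rfl⟩ : ∃ l : ℕ, j = i + l := ⟨(j - i).toNat, by omega⟩
  have := (M.bwd D i l).1 hne
  omega

theorem not_le_pred {i j : ℤ} (h : i < j) (h' : j ≤ i + m) : ¬ S F U i j ≤ W F U (i - 1) := by
  obtain ⟨l, rfl⟩ : ∃ l : ℕ, j = i + l := ⟨(j - i).toNat, by omega⟩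
  exact (M.bwd D i l).2 (by omega)

/-- The long path groups are the kernel of the apartment. -/
theorem S_eq_Ker {i j : ℤ} (h : i + m < j) : S F U i j = Ker F U := by
  refine le_antisymm ?_ (Ker_le_S i j)
  have key : ∀ n : ℕ, S F U i j ≤ S F U (i - n) (j + n) := by
    intro n
    induction n with
    | zero => simp
    | succ n ih =>
      intro x hx
      have h1 := ih hx
      have h2 := M.le_succ (by omega) h1
      have h3 := M.le_pred D (by omega) h1
      have e1 : i - ((n + 1 : ℕ) : ℤ) = i - n - 1 := by push_cast; ring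
      have e2 : j + ((n + 1 : ℕ) : ℤ) = j + n + 1 := by push_cast; ring
      rw [e1, e2]
      refine (mem_S_succ (by omega)).2 ⟨(mem_S_pred (by omega)).2 ⟨h1, h3⟩, h2⟩
  intro x hx k
  obtain ⟨n, h1, h2⟩ : ∃ n : ℕ, i - n ≤ k ∧ k < j + n :=
    ⟨(i - k).natAbs + (j - k).natAbs + 1, by omega, by omega⟩
  exact key n hx k h1 h2

/-- The kernel of the apartment is normalised by all path groups. -/
theorem ker_S (hm : 2 ≤ m) {i j : ℤ} (hij : i < j) {x r : G} (hx : x ∈ S F U i j)
    (hr : r ∈ Ker F U) : x * r * x⁻¹ ∈ Ker F U := by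
  have key : ∀ n : ℕ, ∀ i j : ℤ, i < j → i + m ≤ j + n → ∀ x ∈ S F U i j,
      ∀ r ∈ Ker F U, x * r * x⁻¹ ∈ Ker F U := by
    intro n
    induction n with
    | zero =>
      intro i j hij hn x hx r hr
      rcases eq_or_ne j (i + m) with rfl | hne
      · have h1 : r ∈ S F U (i - 2) (i + m - 1) := Ker_le_S _ _ hr
        have h2 := D.comm (i := i - 2) (j := i + m - 1) (k := i) (l := i + m) (by omega) (by omega)
          (by omega) h1 hx
        rw [M.S_eq_Ker D (by omega)] at h2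
        have h3 := mul_mem h2 hr
        rwa [inv_mul_cancel_right] at h3
      · rw [M.S_eq_Ker D (by omega)] at hx
        exact mul_mem (mul_mem hx hr) (inv_mem hx)
    | succ n ih =>
      intro i j hij hn x hx r hr
      rcases le_or_gt (i + m) (j + n) with h | h
      · exact ih i j hij h x hx r hr
      · have h1 : ¬ S F U (i - 1) j ≤ W F U j := M.not_le_succ (by omega) (by omega)
        obtain ⟨y, hy, hyx⟩ := D.trans_fwd (by omega) h1 (hx (j - 1) (by omega) (by omega))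
        have h2 : y⁻¹ * x ∈ S F U i (j + 1) :=
          (mem_S_succ hij.le).2 ⟨mul_mem (inv_mem (S_anti (by omega) le_rfl hy)) hx, hyx⟩
        have h4 := ih i (j + 1) (by omega) (by push_cast at hn ⊢; omega) _ h2 r hr
        have h5 := ih (i - 1) j (by omega) (by push_cast at hn ⊢; omega) _ hy _ h4
        have e : y * (y⁻¹ * x * r * (y⁻¹ * x)⁻¹) * y⁻¹ = x * r * x⁻¹ := by group
        rwa [e] at h5
  exact key (i.natAbs + j.natAbs + m) i j hij (by omega) x hx r hr

theorem ker_B (hm : 2 ≤ m) {b r : G} (hb : b ∈ F.B) (hr : r ∈ Ker F U) :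
    b * r * b⁻¹ ∈ Ker F U := by
  obtain ⟨u, hu, hub⟩ := D.cover b hb
  have h1 := D.ker_H₁ hub hr
  have hu' : u ∈ S F U 0 (0 + 1) := by
    rw [S_single, W_zero]; exact hu
  have h2 := M.ker_S D hm (by omega) hu' h1
  have e : u * (u⁻¹ * b * r * (u⁻¹ * b)⁻¹) * u⁻¹ = b * r * b⁻¹ := by group
  rwa [e] at h2

/-- The kernel of the apartment is normal in both minimal parabolic subgroups. -/
theorem ker_P (hm : 2 ≤ m) (i : Bool) {p r : G} (hp : p ∈ F.P i) (hr : r ∈ Ker F U) :
    p * r * p⁻¹ ∈ Ker F U := by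
  rcases (F.memP i p).1 hp with hb | ⟨b, hb, c, hc, rfl⟩
  · exact M.ker_B D hm hb hr
  · have h1 := M.ker_B D hm hc hr
    have h2 := D.ker_n i h1
    have h3 := M.ker_B D hm hb h2
    have e : b * (F.n i * (c * r * c⁻¹) * (F.n i)⁻¹) * b⁻¹ =
        b * F.n i * c * r * (b * F.n i * c)⁻¹ := by group
    rwa [e] at h3

/-- No nontrivial subgroup of `U` is normal in both minimal parabolic subgroups. -/
theorem ker_eq_bot (hm : 2 ≤ m)
    (hcore : ∀ R ≤ U, (∀ i, ∀ p ∈ F.P i, ∀ r ∈ R, p * r * p⁻¹ ∈ R) → R = ⊥) : Ker F U = ⊥ := by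
  refine hcore _ (fun x hx => ?_) fun i p hp r hr => M.ker_P D hm i hp hr
  have := hx 0
  rwa [W_zero] at this

end Sym

/-- The root group with the ends `k` and `k + m`. -/
def X (F : Frame G) (U : Subgroup G) (m : ℕ) (k : ℤ) : Subgroup G := S F U k (k + m)

namespace Sym

variable {m : ℕ} (M : Sym F U m)

omit M D in
theorem _root_.Cfsg.Agent.Omega.Tree.X_le_S {i j k : ℤ} (h1 : k ≤ i) (h2 : j ≤ k + m) :
    X F U m k ≤ S F U i j := S_anti h1 h2

include D M

/-- `S i j = X_i S (i-1) j`. -/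
theorem exists_mul {i j : ℤ} (hij : i < j) (h : j ≤ i + m) {x : G} (hx : x ∈ S F U i j) :
    ∃ y ∈ X F U m i, ∃ z ∈ S F U (i - 1) j, x = y * z := by
  have h1 : ¬ S F U i (i + m) ≤ W F U (i - 1) := M.not_le_pred D (by omega) le_rfl
  obtain ⟨y, hy, hyx⟩ := D.trans_bwd (by omega) h1 (hx i le_rfl hij)
  exact ⟨y, hy, y⁻¹ * x, (mem_S_pred hij.le).2
    ⟨mul_mem (inv_mem (S_anti le_rfl h hy)) hx, hyx⟩, by group⟩

/-- `S i j = X_{j-m} S i (j+1)`. -/
theorem exists_mul' {i j : ℤ} (hij : i < j) (h : j ≤ i + m) {x : G} (hx : x ∈ S F U i j) :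
    ∃ y ∈ X F U m (j - m), ∃ z ∈ S F U i (j + 1), x = y * z := by
  have h1 : ¬ S F U (j - m) j ≤ W F U j := M.not_le_succ (by omega) (by omega)
  obtain ⟨y, hy, hyx⟩ := D.trans_fwd (by omega) h1 (hx (j - 1) (by omega) (by omega))
  refine ⟨y, ?_, y⁻¹ * x, (mem_S_succ hij.le).2
    ⟨mul_mem (inv_mem (S_anti (by omega) le_rfl hy)) hx, hyx⟩, by group⟩
  rw [X, sub_add_cancel]; exact hy

/-- The root group meets the kernel of the panel at its end trivially. -/
theorem X_inf_pred {i : ℤ} {x : G} (hx : x ∈ X F U m i) (hx' : x ∈ W F U (i - 1)) :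
    x ∈ Ker F U := by
  rw [← M.S_eq_Ker D (i := i - 1) (j := i + m) (by omega)]
  exact (mem_S_pred (by have := M.pos; omega)).2 ⟨hx, hx'⟩

theorem X_inf_succ {i : ℤ} {x : G} (hx : x ∈ X F U m i) (hx' : x ∈ W F U (i + m)) :
    x ∈ Ker F U := by
  rw [← M.S_eq_Ker D (i := i) (j := i + m + 1) (by omega)]
  exact (mem_S_succ (by have := M.pos; omega)).2 ⟨hx, hx'⟩

/-- The path groups are generated by the root groups they contain. -/
theorem S_eq_sup {i j : ℤ} (hij : i < j) :
    S F U i j = (⨆ k ∈ Set.Icc (j - m) i, X F U m k) ⊔ Ker F U := by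
  refine le_antisymm ?_ (sup_le (iSup₂_le fun k hk => S_anti hk.2 (by have := hk.1; omega))
    (Ker_le_S i j))
  have key : ∀ n : ℕ, ∀ i : ℤ, i < j → i ≤ j - m + n → ∀ x ∈ S F U i j,
      x ∈ (⨆ k ∈ Set.Icc (j - m) i, X F U m k) ⊔ Ker F U := by
    intro n
    induction n with
    | zero =>
      intro i hij hn x hx
      rcases eq_or_ne i (j - m) with rfl | hne
      · refine Subgroup.mem_sup_left (Subgroup.mem_iSup_of_mem (j - m)
          (Subgroup.mem_iSup_of_mem ⟨le_rfl, le_rfl⟩ ?_))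
        rw [X, sub_add_cancel]; exact hx
      · rw [M.S_eq_Ker D (by omega)] at hx
        exact Subgroup.mem_sup_right hx
    | succ n ih =>
      intro i hij hn x hx
      rcases le_or_gt i (j - m + n) with h1 | h1
      · exact ih i hij h1 x hx
      · obtain ⟨y, hy, z, hz, rfl⟩ := M.exists_mul D hij (by omega) hx
        refine mul_mem ?_ ?_
        · exact Subgroup.mem_sup_left (Subgroup.mem_iSup_of_mem i
            (Subgroup.mem_iSup_of_mem ⟨by omega, le_rfl⟩ hy))
        · have h2 := ih (i - 1) (by omega) (by push_cast at hn ⊢; omega) z hz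
          have h3 : (⨆ k ∈ Set.Icc (j - m) (i - 1), X F U m k) ≤
              ⨆ k ∈ Set.Icc (j - m) i, X F U m k :=
            iSup₂_le fun k hk => le_iSup₂_of_le k ⟨hk.1, by have := hk.2; omega⟩ le_rfl
          exact sup_le_sup_right h3 _ h2
  exact key (i.natAbs + j.natAbs + m) i hij (by omega)

/-- Commutators of root groups. -/
theorem comm_X {a b : ℤ} (h1 : a < b) (h2 : b < a + m) {x y : G} (hx : x ∈ X F U m a)
    (hy : y ∈ X F U m b) : y * x * y⁻¹ * x⁻¹ ∈ S F U (b - 1) (a + m + 1) :=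
  D.comm h1 h2 (by omega) hx hy

/-- Commutators of root groups, the form `[X_a, X_b] ≤ ⟨X_c : a < c < b⟩`. -/
theorem comm_X' {a b : ℤ} (h1 : a < b) (h2 : b < a + m) {x y : G} (hx : x ∈ X F U m a)
    (hy : y ∈ X F U m b) :
    y * x * y⁻¹ * x⁻¹ ∈ (⨆ k ∈ Set.Ioo a b, X F U m k) ⊔ Ker F U := by
  have h := M.comm_X D h1 h2 hx hy
  rcases eq_or_ne b (a + 1) with rfl | hne
  · rw [M.S_eq_Ker D (by omega)] at h
    exact Subgroup.mem_sup_right h
  · rw [M.S_eq_sup D (by omega)] at h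
    have h3 : (⨆ k ∈ Set.Icc (a + m + 1 - m) (b - 1), X F U m k) ≤
        ⨆ k ∈ Set.Ioo a b, X F U m k :=
      iSup₂_le fun k hk => le_iSup₂_of_le k ⟨by have := hk.1; omega, by have := hk.2; omega⟩ le_rfl
    exact sup_le_sup_right h3 _ h

/-- The order of the root groups. -/
theorem card_X_eq (k : ℤ) : Nat.card (X F U m (k + 2)) = Nat.card (X F U m k) := by
  have := D.card_S_even even_two k (k + m)
  rw [X, X, ← this, show k + 2 + (m : ℤ) = k + m + 2 by ring]

theorem X_ne_ker (k : ℤ) : ¬ X F U m k ≤ Ker F U := by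
  intro h
  exact M.not_le_succ (i := k) (j := k + m) (by have := M.pos; omega) le_rfl
    fun x hx => h hx _

end Sym

end Cfsg.Agent.Omega.Tree
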